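import Cfsg.Agent.H169.DP.ActE6
import Cfsg.Agent.Nodes.RGDTwActE6
import Cfsg.Agent.ChevalleyStructure.FixedCard

/-!
# `²E₆(q)`: long root elements as commutators of short root elements (S2454; helper169 for helper346)

`exists_comm_long` : every element of `X (z + w)`, `z`, `w` short, `z + w` long, is a commutator `⁅x, y⁆`, `x ∈ X z`,
`y ∈ X w`.
-/

set_option autoImplicit false
set_option linter.unusedSectionVars false
set_option maxHeartbeats 400000

namespace Cfsg.Agent.H169.DP.TwE6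

open CoxeterSystem Cfsg.Agent.ChevalleyStructure.CoxeterGeom Cfsg.Agent.Tits.Roots Cfsg.Agent.Tits.Core
  Cfsg.Agent.Tits.RootComb Cfsg.Agent.Nodes.Comb Cfsg.Agent.Nodes.Reps Cfsg.Agent.Nodes.BNOf
  Cfsg.Agent.Nodes.RGDTwGen Cfsg.Agent.Nodes.RGDChev Cfsg.Agent.Nodes.RGDFold
  Cfsg.Agent.Nodes.RGDFoldSL Cfsg.Agent.Nodes.RGDTwE6 Cfsg.Agent.Nodes.RGDTwTab Cfsg.Agent.Nodes.RGDTwCoordE6
  Cfsg.Agent.Nodes.RGDTwCoord Cfsg.Agent.Nodes.RGDTwComE6 Cfsg.Agent.Nodes.RGDTwActE6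
  Cfsg.Agent.Nodes.RGDLib Cfsg.Agent.Nodes.SubComb Cfsg.Agent.Nodes.Sub Cfsg.Agent.Nodes.Bruhat
open Cfsg.Lie Cfsg.Agent.ChevalleyStructure
open scoped commutatorElement

universe u

/-- The class of a vector. -/
local notation "cl" => Cfsg.Agent.Nodes.RGDTwCoord.cl chevE6 J O

variable {K : Type u} [Field K] [Fintype K] {q : ℕ} {φ : K →+* K} (hφ : ∀ x, φ x = x ^ q)
  (hqq : ∀ t : K, (t ^ q) ^ q = t) {W : Type*} [Group W] {cs : CoxeterSystem CoxeterMatrix.F₄ W}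

include hφ hqq

theorem N_ne {z w : Fin 4 → ℤ} (hz : IsRoot cs isCartan z) (hw : IsRoot cs isCartan w)
    (hk : kd (cl z) (cl w) = 2 ∨ kd (cl z) (cl w) = 3) :
    ((N z w : ℤ) : K) ≠ 0 := by
  have key : ∀ {r s : ℕ}, r < chevE6.nroots → s < chevE6.nroots → 2 ≤ Nodes.RGDTwTab.dgE6 r s →
      ((Nodes.RGDTwCoord.NN Nodes.RGDTwTab.dgE6 Nodes.RGDTwCoordE6.dl r s : ℤ) : K) ≠ 0 := by
    intro r s hr hs h
    have h1 := congrArg (Int.cast : ℤ → K) ((twC hφ hqq).NN_sq hr hs h)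
    rw [Int.cast_mul, Int.cast_one] at h1
    exact left_ne_zero_of_mul (by rw [h1]; exact one_ne_zero)
  unfold N
  rcases hk with hk | hk
  · rw [if_neg (by rw [hk]; decide), if_neg (by rw [hk]; decide)]
    refine key (V_of_mem hz (head_mem hz)).1 (V_of_mem hw (head_mem hw)).1 ?_
    unfold kd at hk
    split_ifs at hk <;> omega
  · rw [if_pos hk]
    refine key (V_of_mem hz (head_mem hz)).1 (V_of_mem hw (last_mem hw)).1 ?_
    unfold kd at hk
    split_ifs at hk <;> omega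

omit hqq in
theorem exists_ne (hK : Fintype.card K = q ^ 2) (hq1 : 1 < q) : ∃ t : K, φ t ≠ t := by
  by_contra hno
  push Not at hno
  have h1 := ChevalleyStructure.FixedCard.card_fixed hq1 hK
  have h2 : Nat.card {x : K // x ^ q = x} = q ^ 2 := by
    rw [← hK, ← Nat.card_eq_fintype_card]
    exact Nat.card_congr (Equiv.subtypeUnivEquiv fun x => by rw [← hφ, hno])
  rw [h2] at h1
  nlinarith

theorem exists_tr (hne : ∃ t : K, φ t ≠ t) {a c : K} (ha : a ≠ 0) (hc : φ c = c) :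
    ∃ b : K, a * φ b + φ a * b = c := by
  have hφφ : ∀ t, φ (φ t) = t := phi_phi hφ hqq
  obtain ⟨t, ht⟩ : ∃ t : K, t + φ t ≠ 0 := by
    by_contra hno
    push Not at hno
    obtain ⟨t, ht⟩ := hne
    have h1 := hno 1
    rw [map_one] at h1
    have h2 := hno t
    apply ht
    have h3 : (t + t : K) = t * (1 + 1) := by ring
    rw [h1, mul_zero] at h3
    linear_combination h2 - h3
  refine ⟨(φ a)⁻¹ * (c / (t + φ t) * t), ?_⟩
  have hfa : φ a ≠ 0 := (map_ne_zero φ).2 ha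
  rw [mul_inv_cancel_left₀ hfa, map_mul, map_inv₀, hφφ, mul_inv_cancel_left₀ ha, map_mul, map_div₀, map_add, hφφ, hc,
    add_comm (φ t) t, ← mul_add, add_comm (φ t) t, div_mul_cancel₀ _ ht]

/-- **Long root elements are commutators.** -/
theorem exists_comm_long (hK : Fintype.card K = q ^ 2) (hq1 : 1 < q) {z w : Fin 4 → ℤ}
    (hz : IsRoot cs isCartan z) (hw : IsRoot cs isCartan w)
    (hzw : IsRoot cs isCartan (z + w)) (sz : St z) (sw : St w) (lzw : Lg (z + w)) {g : ↥(twistedE6 K q)}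
    (hg : g ∈ X φ q (z + w)) : ∃ x ∈ X φ q z, ∃ y ∈ X φ q w, g = ⁅x, y⁆ := by
  have hkd : kd (cl z) (cl w) = 3 := by
    have hlen := lzw.length hzw
    rcases kd_ss hz hw hzw sz sw with h | h
    · exact h
    · obtain ⟨u₀, u₁, h1, -⟩ := facts_short hz hw h
      rw [h1] at hlen; simp at hlen
  have hN := N_ne (K := K) hφ hqq hz hw (Or.inr hkd)
  obtain ⟨a, ha, rfl⟩ := (mem_X_long hφ hqq hzw lzw g).1 hg
  obtain ⟨b, hb⟩ := exists_tr hφ hqq (exists_ne hφ hK hq1) (a := (1 : K)) (c := (((N z w : ℤ) : K))⁻¹ * a)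
    one_ne_zero (by rw [map_mul, map_inv₀, map_intCast, ha])
  refine ⟨x φ q z 1, (mem_X_short hφ hqq hz sz _).2 ⟨1, rfl⟩, x φ q w b, (mem_X_short hφ hqq hw sw _).2 ⟨b, rfl⟩, ?_⟩
  rw [comm_trace hφ hqq hz hw hzw sz sw lzw, hb, mul_inv_cancel_left₀ hN]

omit hφ hqq [Fintype K] in
theorem isRoot_12 : IsRoot cs isCartan (sr 1 + sr 2) := by
  have h1 := (isRoot_sr cs isCartan 2).act (cs.simple 1)
  rw [rep_simple_eq] at h1
  have h2 : pairing A 1 (sr 2) = -1 := by decide +kernel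
  rw [h2] at h1
  have h3 : (sr 2 : Fin 4 → ℤ) - (-1 : ℤ) • sr 1 = sr 1 + sr 2 := by
    rw [neg_one_smul, sub_neg_eq_add, add_comm]
  rwa [h3] at h1

/-- the root group of the long node `1` consists of commutators of elements of `X (sr 1 + sr 2)` and `X (-sr 2)` -/
theorem exists_comm_one (hK : Fintype.card K = q ^ 2) (hq1 : 1 < q) {g : ↥(twistedE6 K q)} (hg : g ∈ X φ q (sr 1)) :
    ∃ x ∈ X φ q (sr 1 + sr 2), ∃ y ∈ X φ q (-sr 2), g = ⁅x, y⁆ := by
  have e : (sr 1 + sr 2 : Fin 4 → ℤ) + -sr 2 = sr 1 := by abel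
  have hr := isRoot_sr CoxeterMatrix.F₄.toCoxeterSystem isCartan
  refine exists_comm_long (cs := CoxeterMatrix.F₄.toCoxeterSystem) hφ hqq hK hq1 isRoot_12 (hr 2).neg ?_ ?_ ?_ ?_ ?_
  · rw [e]; exact hr 1
  · unfold St; decide +kernel
  · unfold St; decide +kernel
  · rw [e]; unfold Lg; decide +kernel
  · rw [e]; exact hg

end Cfsg.Agent.H169.DP.TwE6
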