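import Cfsg.Agent.H169.DP.Act
import Cfsg.Agent.UGT.U2.FOne.TwESix
import Cfsg.Agent.KFacts.TwESix.NodeCoord

/-!
# The torus of `²E₆(q)` acting on the root `SL₂` of the nodes (S2454; helper169 for helper346)
-/

set_option autoImplicit false
set_option linter.unusedSectionVars false
set_option maxHeartbeats 400000

namespace Cfsg.Agent.H169.DP.TwE6

open CoxeterSystem Cfsg.Agent.ChevalleyStructure.CoxeterGeom Cfsg.Agent.Tits.Roots Cfsg.Agent.Tits.Core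
  Cfsg.Agent.Tits.RootComb Cfsg.Agent.Nodes.Comb Cfsg.Agent.Nodes.Reps Cfsg.Agent.Nodes.BNOf
  Cfsg.Agent.Nodes.RGDTwGen Cfsg.Agent.Nodes.RGDChev Cfsg.Agent.Nodes.RGDFold
  Cfsg.Agent.Nodes.RGDFoldSL Cfsg.Agent.Nodes.RGDTwE6 Cfsg.Agent.Nodes.RGDTwTab Cfsg.Agent.Nodes.RGDTwCoordE6
  Cfsg.Agent.Nodes.RGDTwCoord Cfsg.Agent.Nodes.RGDTwComE6 Cfsg.Agent.Nodes.RGDTwActE6
  Cfsg.Agent.Nodes.RGDLib Cfsg.Agent.Nodes.SubComb Cfsg.Agent.Nodes.Sub Cfsg.Agent.Nodes.Bruhat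
open Cfsg.Lie Cfsg.Agent.ChevalleyStructure
  Cfsg.Agent.ChevalleyStructure.TwistedU Cfsg.Agent.ChevalleyStructure.TwistedFix
open Cfsg.Agent.ChevalleyStructure.TwE6Basic (sg)
open Cfsg.Agent.OddHalf.NI.Mult (up lo nn dg Coord)
open Cfsg.Agent.Nodes.RGDTwNode.E6 (nodeOK eps_one rest rep)
open Cfsg.Agent.UGT.U2.FOne.TwESix (P hf coordP P_hS_mem)
open Cfsg.Agent.H175.DP (dc)

universe u

variable {K : Type u} [Field K] [Fintype K] {q : ℕ} {φ : K →+* K} (hφ : ∀ x, φ x = x ^ q)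
  (hqq : ∀ t : K, (t ^ q) ^ q = t)

/-- the coordinate field of the node `i` -/
abbrev Fn (φ : K →+* K) (i : Fin 4) : Type u := Fx φ ((rest i).length + 1)

theorem P_dg_mem (i : Fin 4) (d : (Fn φ i)ˣ) : P hφ hqq i (dg d) ∈ T K q := by
  rw [Cfsg.Agent.OddHalf.NI.ModelTw.dg_eq]
  exact P_hS_mem hφ hqq i d.ne_zero

/-- **The action on the root groups of the nodes.** -/
theorem conj_P {i j : Fin 4} (d : (Fn φ j)ˣ) {c : (Fn φ i)ˣ}
    (hc : ((c : Fn φ i) : K) = wt chevE6 φ (J j) (rep i) ((d : Fn φ j) : K)) (a : Fn φ i) :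
    P hφ hqq j (dg d) * P hφ hqq i (up a) * (P hφ hqq j (dg d))⁻¹ = P hφ hqq i (up ((c : Fn φ i) * a)) := by
  have hd' : ((d : Fn φ j) : K) ≠ 0 := fun h => d.ne_zero (Subtype.ext h)
  have h1 := Cfsg.Agent.OddHalf.NI.ModelTw.coe_Phi_dg (foldGrp hφ hqq) nodeOK hf j d
  have h2 := KFacts.TwESix.NodeCoord.ch_spec (foldGrp hφ hqq) (nodeOK i) (hf i) (P_dg_mem hφ hqq j d)
  have h3 : (KFacts.TwESix.NodeCoord.ch (foldGrp hφ hqq) (nodeOK i) (hf i) (P hφ hqq j (dg d)) : K) =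
      ((c : Fn φ i) : K) := by
    refine KFacts.TwESix.NodeCoord.ch_eq (foldGrp hφ hqq) (nodeOK i) (hf i) (P_dg_mem hφ hqq j d) ?_
    have h4 := hI_conj (hp := hp) (φ := φ) (J j) ((nodeOK i).lt (rep i) List.mem_cons_self) hd' 1
    rw [← h1, mul_one, ← hc] at h4
    exact h4
  rw [show (c : Fn φ i) = KFacts.TwESix.NodeCoord.ch (foldGrp hφ hqq) (nodeOK i) (hf i) (P hφ hqq j (dg d)) from
    Subtype.ext h3.symm]
  exact h2.2.2 a

end Cfsg.Agent.H169.DP.TwE6
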