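import Cfsg.Agent.H514.DP.Core
import Cfsg.Agent.H330.Gow
import Cfsg.Agent.Nodes.ClsSub
import Cfsg.Agent.KFacts.RgdLieCharP
import Cfsg.Agent.UGT.U2.FOne.QsRGD
import Cfsg.Agent.H53.HC.RgdLevi
import Cfsg.Agent.Mrg.Omega.ML.Ex.Ext

/-!
# Gow's theorem in Levi subgroups (S2454, exceptional groups; helper169 for helper346)

* `filt_levi` : the filtration of a standard Levi subsystem;
* `gow_simple` : Gow's theorem with elements of order `p`, simple groups with a filtered root group datum, `p` divides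
  the order of no proper parabolic subgroup;
* `levi_gow` : `J` a minimal set of nodes with `p ∣ |MJ J|`, `p ∤ |T|`: every `r`-regular noncentral element `z` of `MJ J` is,
  up to a central factor, a product of two `p`-elements.
-/

set_option autoImplicit false
set_option linter.unusedSectionVars false

namespace Cfsg.Agent.H169.DP

open CoxeterSystem Cfsg.Agent.ChevalleyStructure.CoxeterGeom Cfsg.Agent.Tits.Roots Cfsg.Agent.Tits.Core
  Cfsg.Agent.Tits.RootComb Cfsg.Agent.Tits.Exchange Cfsg.Agent.Nodes.Reps Cfsg.Agent.Nodes.BNOf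
  Cfsg.Agent.Nodes.StabComb Cfsg.Agent.Nodes.Bruhat Cfsg.Agent.Nodes.OppDec Cfsg.Agent.Nodes.LeviDec
  Cfsg.Agent.Nodes.RGDLib Cfsg.Agent.Nodes.SubComb Cfsg.Agent.Nodes.Sub Cfsg.Agent.Nodes.ClsSub
  Cfsg.Agent.KFacts.RgdPar Cfsg.Agent.KFacts.RgdBorelTits Cfsg.Agent.KFacts.RgdFilt
  Cfsg.Agent.H53.HC Cfsg.Agent.H514.DP
open scoped commutatorElement

variable {I W Y : Type*} [Fintype I] [DecidableEq I] [Group W] [Group Y] {M : CoxeterMatrix I}
  {cs : CoxeterSystem M W} {A : I → I → ℤ} {h : IsCartan M A} {r : ℕ} {T : Subgroup Y} {n : I → Y}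
  {X : (I → ℤ) → Subgroup Y}

section levi

variable {J' W' : Type*} [Fintype J'] [DecidableEq J'] [Group W'] (f : J' ↪ I)

open Classical in
/-- extension by zero -/
noncomputable def ext0 (f : J' ↪ I) (g : J' → ℝ) : I → ℝ := fun k => if hk : ∃ j, f j = k then g hk.choose else 0

theorem ext0_apply (g : J' → ℝ) (j : J') : ext0 f g (f j) = g j := by
  unfold ext0
  have hk : ∃ j', f j' = f j := ⟨j, rfl⟩
  rw [dif_pos hk]
  exact congrArg g (f.injective hk.choose_spec)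

theorem ev_ext0 (g : J' → ℝ) (c : J' → ℤ) : ev (ext0 f g) (iota (fun j => sr (f j)) c) = ev g c := by
  rw [iota_apply, map_sum, ev_apply]
  refine Finset.sum_congr rfl fun j _ => ?_
  rw [ev_smul, ev_sr, ext0_apply]

/-- The roots between two roots of a standard Levi subsystem. -/
theorem btwn_levi [Finite W] (cs' : CoxeterSystem (leviMatrix f M) W') {x y : J' → ℤ} {z : I → ℤ}
    (hz : Btwn cs h (iota (fun j => sr (f j)) x) (iota (fun j => sr (f j)) y) z) :
    ∃ e, z = iota (fun j => sr (f j)) e ∧ Btwn cs' (levi_isCartan f h) x y e := by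
  have S := levi_subSys (cs := cs) (h := h) f
  obtain ⟨hr, m, a, b, hm, ha, hb, e⟩ := hz
  have e' : m • z = iota (fun j => sr (f j)) (a • x + b • y) := by rw [e, map_add, map_smul, map_smul]
  obtain ⟨d, hd, -⟩ := levi_base (cs := cs) (h := h) f z hr m hm _ e'
  have hb' : ∀ c, IsRoot cs h (iota (fun j => sr (f j)) c) → 0 ≤ c ∨ c ≤ 0 := by
    intro c hc
    obtain ⟨d, hd, hs⟩ := levi_base (cs := cs) (h := h) f _ hc 1 one_pos c (one_smul _ _)
    rwa [S.iota_injective hd]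
  exact ⟨d, hd, S.isRoot_of_iota cs' _ hb' (hd ▸ hr), m, a, b, hm, ha, hb,
    S.iota_injective (by rw [map_smul, ← hd, e'])⟩

/-- **The filtration of a standard Levi subsystem.** -/
theorem filt_levi [Finite W] {R : RGD cs h r T n X} {F : (I → ℤ) → ℝ → Subgroup Y} (hF : Filt R F)
    (cs' : CoxeterSystem (leviMatrix f M) W') :
    Filt (rgd_levi R f cs') (fun c s => F (iota (fun j => sr (f j)) c) s) := by
  have S := levi_subSys (cs := cs) (h := h) f
  have hr : ∀ {c}, IsRoot cs' (levi_isCartan f h) c → IsRoot cs h (iota (fun j => sr (f j)) c) :=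
    fun hc => S.isRoot_iota hc
  refine ⟨fun x s hx => hF.le _ s (hr hx), fun x s s' hx hs => hF.mono _ s s' (hr hx) hs,
    fun x s hx hs => hF.neg _ s (hr hx) hs, ?_, fun x hx u => hF.closed _ (hr hx) u, ?_,
    fun x s hx t ht => hF.tor _ s (hr hx) t ht, fun x s hx => hF.nrm _ s (hr hx), ?_⟩
  · obtain ⟨C, hC, h1⟩ := hF.full
    exact ⟨C, hC, fun x s hx hs => h1 _ s (hr hx) hs⟩
  · intro i x s hx
    rw [hF.conj (f i) _ s (hr hx)]
    have h1 := S.rep_simple_iota cs' (levi_isCartan f h) i x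
    have h2 : rfl' cs 1 (f i) = cs.simple (f i) := by
      unfold rfl'
      rw [one_mul, inv_one, mul_one]
    rw [h2] at h1
    rw [h1]
  · intro g x y hx hy hxy hxy' h0 h1 a ha b hb
    have h2 := hF.comm (ext0 f g) _ _ (hr hx) (hr hy) (fun e => hxy (S.iota_injective e))
      (fun e => hxy' (S.iota_injective (by rw [e, map_neg]))) (by rw [ev_ext0]; exact h0)
      (by rw [ev_ext0]; exact h1) a (by rw [ev_ext0]; exact ha) b hb
    refine (FS_le ?_ : _ ≤ FS (fun z => F (iota (fun j => sr (f j)) z) (ev g z))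
      {z | Btwn cs' (levi_isCartan f h) x y z}) h2
    intro z hz
    obtain ⟨e, rfl, he⟩ := btwn_levi f cs' hz
    show F (iota (fun j => sr (f j)) e) (ev (ext0 f g) (iota (fun j => sr (f j)) e)) ≤ _
    rw [ev_ext0]
    exact le_FS (G := fun z => F (iota (fun j => sr (f j)) z) (ev g z))
      (S := {z | Btwn cs' (levi_isCartan f h) x y z}) he

end levi

section simple

open Subgroup

/-- **Gow's theorem** for elements of order `p` in a simple group with a filtered root group datum and abelian torus. -/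
theorem gow_simple {Q : Type*} [Group Q] [Finite Q] [IsSimpleGroup Q] [Fact r.Prime] {l : ℕ} [Nonempty (Fin l)]
    {M : CoxeterMatrix (Fin l)} [Finite M.Group] {A : Fin l → Fin l → ℤ} {h : IsCartan M A} {T : Subgroup Q}
    {n : Fin l → Q} {X : (Fin l → ℤ) → Subgroup Q} (R : RGD M.toCoxeterSystem h r T n X)
    (hT : ∀ s ∈ T, ∀ t ∈ T, s * t = t * s) {Fl : (Fin l → ℤ) → ℝ → Subgroup Q} (hF : Filt R Fl)
    (hG : G1 M.toCoxeterSystem h X = ⊤) (hnc : ∃ a b : Q, a * b ≠ b * a) {p : ℕ} (hp : p.Prime)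
    (hpd : p ∣ Nat.card Q) (hpar : ∀ J : Set (Fin l), J ≠ Set.univ → ¬ p ∣ Nat.card (PJ M.toCoxeterSystem h T X J))
    {z : Q} (hz : z ≠ 1) (hzr : ¬ r ∣ orderOf z) :
    ∃ x g k : Q, orderOf x = p ∧ g * x * g⁻¹ * (k * x * k⁻¹) = z := by
  have : Fact p.Prime := ⟨hp⟩
  have hr : r.Prime := Fact.out
  have hcen : center Q = ⊥ := KFacts.RgdLieCharP.center_eq_bot hnc
  have hperf : commutator Q = ⊤ := by
    rcases (inferInstance : (commutator Q).Normal).eq_bot_or_eq_top with h1 | h1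
    · exfalso
      obtain ⟨a, b, hab⟩ := hnc
      apply hab
      have h2 : ⁅a, b⁆ ∈ commutator Q := Subgroup.commutator_mem_commutator (mem_top a) (mem_top b)
      rw [h1, mem_bot, commutatorElement_eq_one_iff_mul_comm] at h2
      exact h2
    · exact h1
  have hS : Omega.ML.LieRow.CRB.HasSplitAb r Q := Omega.ML.LieRow.CRB.hasSplitAb_of_rgd hr R hG hT
  have hHF : HasFilt r Q := ⟨l, M, A, h, T, n, X, R, Fl, inferInstance, hG, hF⟩
  have hL : BpLieP.Big.LocChar r Q := fun K hK hK1 => hHF.local_char hnc hK hK1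
  obtain ⟨x, hx⟩ := exists_prime_orderOf_dvd_card' p hpd
  have hcx : ¬ r ∣ Nat.card ↥(centralizer ({x} : Set Q)) := by
    intro hd
    obtain ⟨y, hy⟩ := exists_prime_orderOf_dvd_card' r hd
    have hyo : orderOf (y : Q) = r := by rw [Subgroup.orderOf_coe, hy]
    have hK : IsPGroup r (zpowers (y : Q)) := by
      rw [IsPGroup.iff_card]
      exact ⟨1, by rw [Nat.card_zpowers, hyo, pow_one]⟩
    have hK1 : zpowers (y : Q) ≠ ⊥ := by
      rw [Ne, zpowers_eq_bot]
      intro h1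
      rw [h1, orderOf_one] at hyo
      exact hr.one_lt.ne hyo
    obtain ⟨g, J, hJ, -, hN⟩ := borel_tits_of_filt hF hG hK hK1
    have hxy : x * y = y * x := mem_centralizer_singleton_iff.1 y.2 |>.symm
    have hxN : x ∈ normalizer (zpowers (y : Q) : Set Q) := by
      refine centralizer_le_normalizer (zpowers (y : Q) : Set Q) ?_
      rw [mem_centralizer_iff]
      intro k hk
      obtain ⟨j, rfl⟩ := mem_zpowers_iff.1 hk
      have h1 : Commute x (y : Q) := hxy
      exact (h1.zpow_right j).symm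
    have h1 := hN hxN
    apply hpar J hJ
    have h2 : p ∣ Nat.card (cj g (PJ M.toCoxeterSystem h T X J)) := by
      rw [← hx]
      have := orderOf_dvd_natCard (⟨x, h1⟩ : ↥(cj g (PJ M.toCoxeterSystem h T X J)))
      rwa [Subgroup.orderOf_mk] at this
    have h3 : Nat.card (cj g (PJ M.toCoxeterSystem h T X J)) = Nat.card (PJ M.toCoxeterSystem h T X J) :=
      Nat.card_congr ((PJ M.toCoxeterSystem h T X J).equivMapOfInjective _ (MulAut.conj g).injective).toEquiv.symm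
    rwa [h3] at h2
  obtain ⟨g, k, hgk⟩ := H330.Gow.exists_of_split hS hL hcen hperf hcx hcx hz hzr
  exact ⟨x, g, k, hx, hgk⟩

end simple

section main

theorem card_sup_dvd {G : Type*} [Group G] {K H : Subgroup G}
    (h : H ≤ Subgroup.normalizer (K : Set G)) : Nat.card (H ⊔ K : Subgroup G) ∣ Nat.card H * Nat.card K := by
  have hKn : (K.subgroupOf (K ⊔ H)).Normal :=
    Subgroup.normal_subgroupOf_of_le_normalizer (sup_le Subgroup.le_normalizer h)
  have h1 := Subgroup.relIndex_sup_left (H.subgroupOf (K ⊔ H)) (K.subgroupOf (K ⊔ H))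
  rw [← Subgroup.subgroupOf_sup le_sup_left le_sup_right, Subgroup.subgroupOf_self,
    Subgroup.relIndex_subgroupOf le_sup_right, Subgroup.relIndex_top_right] at h1
  have h2 : Nat.card K * K.relIndex H = Nat.card (K ⊔ H : Subgroup G) := by
    rw [← h1, Subgroup.index_eq_card, ← Subgroup.card_mul_index (K.subgroupOf (K ⊔ H)), Subgroup.index_eq_card,
      Nat.card_congr (Subgroup.subgroupOfEquivOfLe (le_sup_left : K ≤ K ⊔ H)).toEquiv]
  rw [sup_comm, ← h2, mul_comm (Nat.card H)]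
  exact mul_dvd_mul_left _ (Subgroup.relIndex_dvd_card _ _)

theorem not_dvd_of_isPGroup {G : Type*} [Group G] [Finite G] [Fact r.Prime] {K : Subgroup G} (hK : IsPGroup r K)
    {p : ℕ} (hp : p.Prime) (hpr : p ≠ r) : ¬ p ∣ Nat.card K := by
  obtain ⟨k, hk⟩ := IsPGroup.iff_card.1 hK
  intro hd
  rw [hk] at hd
  exact hpr ((Nat.prime_dvd_prime_iff_eq hp Fact.out).1 (hp.dvd_of_dvd_pow hd))

/-- `p` divides `|P_J|` only if it divides `|T|` or `|M_J|`. -/
theorem not_dvd_card_PJ [Finite W] [Finite Y] [Fact r.Prime] (R : RGD cs h r T n X) {J : Set I} {p : ℕ} (hp : p.Prime)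
    (hpr : p ≠ r) (hpT : ¬ p ∣ Nat.card T) (hpM : ¬ p ∣ Nat.card (MJ cs h X J)) :
    ¬ p ∣ Nat.card (PJ cs h T X J) := by
  intro hd
  have h1 : p ∣ Nat.card (LJ cs h T X J) * Nat.card (VJ cs h X J) :=
    hd.trans (card_sup_dvd (LJ_le_normalizer_VJ R J))
  rcases (Nat.Prime.dvd_mul hp).1 h1 with h2 | h2
  · have h3 : p ∣ Nat.card T * Nat.card (MJ cs h X J) := h2.trans (card_sup_dvd (T_le_normalizer_MJ R J))
    rcases (Nat.Prime.dvd_mul hp).1 h3 with h4 | h4
    · exact hpT h4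
    · exact hpM h4
  · exact not_dvd_of_isPGroup (KFacts.RgdCharP.isPGroup_VJ R J) hp hpr h2

theorem not_dvd_card_B [Finite W] [Finite Y] [Fact r.Prime] (R : RGD cs h r T n X) {p : ℕ} (hp : p.Prime)
    (hpr : p ≠ r) (hpT : ¬ p ∣ Nat.card T) : ¬ p ∣ Nat.card (RGD.B cs h T X) := by
  intro hd
  have hU : IsPGroup r (RGD.Sup X (RGD.Pos cs h)) := R.isPGroup_of_pos fun _ hx => hx
  have h1 : p ∣ Nat.card T * Nat.card (RGD.Sup X (RGD.Pos cs h)) := by
    refine hd.trans (card_sup_dvd ?_)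
    exact R.T_le_normalizer fun _ hx => hx.1
  rcases (Nat.Prime.dvd_mul hp).1 h1 with h2 | h2
  · exact hpT h2
  · exact not_dvd_of_isPGroup hU hp hpr h2

open Subgroup in
/-- lifting elements of order `p` modulo a central subgroup of order prime to `p`. -/
theorem exists_lift {H : Type*} [Group H] [Finite H] {p : ℕ} (hp : p.Prime) (hc : ¬ p ∣ Nat.card (center H))
    {x : H ⧸ center H} (hx : orderOf x = p) : ∃ y : H, (QuotientGroup.mk' (center H)) y = x ∧ y ^ p = 1 := by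
  obtain ⟨x', rfl⟩ := QuotientGroup.mk'_surjective (center H) x
  have hcop : Nat.Coprime p (Nat.card (center H)) := (Nat.Prime.coprime_iff_not_dvd hp).2 hc
  obtain ⟨k, hk1, hk2⟩ := Nat.chineseRemainder hcop 1 0
  refine ⟨x' ^ k, ?_, ?_⟩
  · rw [map_pow]
    have h1 : (QuotientGroup.mk' (center H)) x' ^ k = (QuotientGroup.mk' (center H)) x' ^ 1 := by
      rw [pow_eq_pow_iff_modEq, hx]
      exact hk1
    rw [h1, pow_one]
  · have h1 : x' ^ p ∈ center H := by
      have h2 : (QuotientGroup.mk' (center H)) (x' ^ p) = 1 := by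
        rw [map_pow, ← hx, pow_orderOf_eq_one]
      exact (QuotientGroup.eq_one_iff _).1 h2
    have h3 : (x' ^ p) ^ Nat.card (center H) = 1 := by
      have := pow_card_eq_one' (x := (⟨x' ^ p, h1⟩ : center H))
      exact congrArg Subtype.val this
    obtain ⟨m, hm⟩ := (Nat.modEq_zero_iff_dvd).1 hk2
    rw [← pow_mul, mul_comm, pow_mul, hm, pow_mul, h3, one_pow]

open Subgroup in
/-- **Levi–Gow**, `p` not dividing the order of the torus of `MJ J`. -/
theorem levi_gow' [Finite W] [Finite Y] [Fact r.Prime] (R : RGD cs h r T n X)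
    (hT : ∀ s ∈ T, ∀ t ∈ T, s * t = t * s) (hn : ∀ i, n i ∈ X (sr i) ⊔ X (-sr i))
    {Fl : (I → ℤ) → ℝ → Subgroup Y} (hF : Filt R Fl) (J : Set I) (hJ : J.Nonempty)
    (hconn : ∀ K ⊆ J, K.Nonempty → K ≠ J → ∃ a ∈ K, ∃ b ∈ J, b ∉ K ∧ M a b ≠ 2)
    (hperf : ⁅MJ cs h X J, MJ cs h X J⁆ = MJ cs h X J) {p : ℕ} (hp : p.Prime) (hpr : p ≠ r)
    (hpJ : p ∣ Nat.card (MJ cs h X J)) (hmin : ∀ K, K ⊂ J → ¬ p ∣ Nat.card (MJ cs h X K))
    (hpT2 : ¬ p ∣ Nat.card ↥(T.subgroupOf (MJ cs h X J))) {z : Y} (hz : z ∈ MJ cs h X J) (hzr : ¬ r ∣ orderOf z)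
    (hzc : ∃ g ∈ MJ cs h X J, z * g ≠ g * z) :
    ∃ ζ ∈ MJ cs h X J, (∀ g ∈ MJ cs h X J, ζ * g = g * ζ) ∧ PE p 2 (z * ζ) := by
  classical
  obtain ⟨l, ⟨e⟩⟩ := Finite.exists_equiv_fin ↥J
  let f : Fin l ↪ I := ⟨fun j => (e.symm j : I), Subtype.val_injective.comp e.symm.injective⟩
  have hf : ∀ j, f j ∈ J := fun j => (e.symm j).2
  have hrange : Set.range f = J := by
    ext k
    constructor
    · rintro ⟨j, rfl⟩; exact hf j
    · intro hk
      exact ⟨e ⟨k, hk⟩, by show ((e.symm (e ⟨k, hk⟩) : ↥J) : I) = k; rw [e.symm_apply_apply]⟩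
  have hne : Nonempty (Fin l) := by
    obtain ⟨k, hk⟩ := hJ
    exact ⟨e ⟨k, hk⟩⟩
  set cs' := (leviMatrix f M).toCoxeterSystem with hcs'
  have S := levi_subSys (cs := cs) (h := h) f
  have hW' : Finite (leviMatrix f M).Group := S.finite cs' (levi_isCartan f h)
  have hroot : ∀ c, IsRoot cs' (levi_isCartan f h) c → iota (fun j => sr (f j)) c ∈ RootsJ cs h J := by
    intro c hc
    rw [← hrange]
    exact ⟨S.isRoot_iota hc, fun k hk => iota_levi_apply_ne f c fun j hj => hk ⟨j, hj⟩⟩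
  have hXH : ∀ c, IsRoot cs' (levi_isCartan f h) c → X (iota (fun j => sr (f j)) c) ≤ MJ cs h X J :=
    fun c hc => RGD.le_Sup (hroot c hc)
  have hsr : ∀ j, sr (f j) ∈ RootsJ cs h J := fun j =>
    ⟨isRoot_sr cs h _, fun k hk => sr_ne (fun h0 => hk (h0 ▸ hf j))⟩
  have hnH : ∀ j, n (f j) ∈ MJ cs h X J := fun j =>
    (sup_le (RGD.le_Sup (hsr j)) (RGD.le_Sup (RootsJ.neg (hsr j)))) (hn (f j))
  have R1 := rgd_levi R f cs'
  have R2 := rgd_restrict R1 (MJ cs h X J) hXH hnH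
  have hF2 := filt_restrict (filt_levi f hF cs') (MJ cs h X J) hXH (n' := fun i => ⟨n (f i), hnH i⟩) (fun i => rfl) R2
  have hG2 : G1 cs' (levi_isCartan f h) (fun c => (X (iota (fun j => sr (f j)) c)).subgroupOf (MJ cs h X J)) = ⊤ := by
    have h1 : MJ cs h X J ≤ ⨆ c : {c : Fin l → ℤ | IsRoot cs' (levi_isCartan f h) c}, X (iota (fun j => sr (f j)) c.1) := by
      refine RGD.Sup_le fun x hx => ?_
      rw [← hrange] at hx
      have : Fintype (leviMatrix f M).Group := Fintype.ofFinite _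
      have : Fintype W := Fintype.ofFinite _
      obtain ⟨c, hc, rfl⟩ := (mem_RootsJ_range_iff f cs').1 hx
      exact le_iSup (fun c : {c : Fin l → ℤ | IsRoot cs' (levi_isCartan f h) c} => X (iota (fun j => sr (f j)) c.1))
        ⟨c, hc⟩
    have h2 := iSup_subgroupOf (K := MJ cs h X J)
      (fun c : {c : Fin l → ℤ | IsRoot cs' (levi_isCartan f h) c} => X (iota (fun j => sr (f j)) c.1))
      (fun c => hXH c.1 c.2)
    unfold G1 RGD.Sup
    rw [← h2, Subgroup.subgroupOf_eq_top]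
    exact h1
  have hconn' : ∀ K : Set (Fin l), K.Nonempty → K ≠ Set.univ → ∃ a ∈ K, ∃ b, b ∉ K ∧ leviMatrix f M a b ≠ 2 := by
    intro K hK hKu
    obtain ⟨a, ⟨a', ha', rfl⟩, b, hb, hbK, hab⟩ := hconn (f '' K) (by rintro _ ⟨j, -, rfl⟩; exact hf j)
      (hK.image f) (by
        intro h1
        apply hKu
        rw [Set.eq_univ_iff_forall]
        intro j
        have h2 : f j ∈ f '' K := by rw [h1]; exact hf j
        obtain ⟨k, hk, e2⟩ := h2
        rwa [f.injective e2] at hk)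
    rw [← hrange] at hb
    obtain ⟨b', rfl⟩ := hb
    exact ⟨a', ha', b', fun h1 => hbK ⟨b', h1, rfl⟩, hab⟩
  have hT2 : ∀ s ∈ T.subgroupOf (MJ cs h X J), ∀ t ∈ T.subgroupOf (MJ cs h X J), s * t = t * s :=
    fun s hs t ht => Subtype.ext (hT _ hs _ ht)
  have hsolv : Group.IsSolvable ↥(T.subgroupOf (MJ cs h X J)) := by
    exact Group.isSolvable_of_comm fun s t => Subtype.ext (hT2 s s.2 t t.2)
  have hcomm : commutator ↥(MJ cs h X J) = ⊤ := by
    apply Subgroup.map_injective (MJ cs h X J).subtype_injective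
    rw [Subgroup.map_subtype_commutator, hperf, ← MonoidHom.range_eq_map, Subgroup.range_subtype]
  have hqs := UGT.U2.FOne.QsRGD.isQuasisimple_of_rgd R2 hG2 hconn' hsolv hcomm
  have hsimple : IsSimpleGroup (↥(MJ cs h X J) ⧸ center ↥(MJ cs h X J)) := hqs.2
  -- the centre
  have hcB : center ↥(MJ cs h X J) ≤ RGD.B cs' (levi_isCartan f h) (T.subgroupOf (MJ cs h X J))
      (fun c => (X (iota (fun j => sr (f j)) c)).subgroupOf (MJ cs h X J)) := by
    rcases UGT.U2.FOne.QsRGD.eq_top_or_le_B (R2.bnPair (rgd_gen_of_G1 R2 hG2))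
      (R2.bnPair_irreducible (rgd_gen_of_G1 R2 hG2) hconn')
      (Cfsg.Agent.FixBN.FieldRGD.isSolvable_B R2 hsolv) hcomm (center ↥(MJ cs h X J)) with h1 | h1
    · exfalso
      obtain ⟨g, hg, hgz⟩ := hzc
      apply hgz
      have h2 : (⟨z, hz⟩ : ↥(MJ cs h X J)) ∈ center ↥(MJ cs h X J) := by rw [h1]; trivial
      have h3 := Subgroup.mem_center_iff.1 h2 ⟨g, hg⟩
      exact (congrArg Subtype.val h3).symm
    · exact h1
  have hpc : ¬ p ∣ Nat.card (center ↥(MJ cs h X J)) := fun hd =>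
    not_dvd_card_B R2 hp hpr hpT2 (hd.trans (Subgroup.card_dvd_of_le hcB))
  -- the quotient
  have hker : (QuotientGroup.mk' (center ↥(MJ cs h X J))).ker ≤ center ↥(MJ cs h X J) := by
    rw [QuotientGroup.ker_mk']
  have R3 := rgd_map_of_ker_le_center R2 (QuotientGroup.mk' (center ↥(MJ cs h X J))) hker
  have hF3 := filt_map hF2 (QuotientGroup.mk' (center ↥(MJ cs h X J))) R3
  have hG3 : G1 cs' (levi_isCartan f h) (fun c => ((X (iota (fun j => sr (f j)) c)).subgroupOf (MJ cs h X J)).map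
      (QuotientGroup.mk' (center ↥(MJ cs h X J)))) = ⊤ := by
    have h1 : (G1 cs' (levi_isCartan f h) (fun c => (X (iota (fun j => sr (f j)) c)).subgroupOf (MJ cs h X J))).map
        (QuotientGroup.mk' (center ↥(MJ cs h X J))) =
        G1 cs' (levi_isCartan f h) (fun c => ((X (iota (fun j => sr (f j)) c)).subgroupOf (MJ cs h X J)).map
      (QuotientGroup.mk' (center ↥(MJ cs h X J)))) := by
      unfold G1 RGD.Sup
      rw [Subgroup.map_iSup]
    rw [← h1, hG2, Subgroup.map_top_of_surjective _ (QuotientGroup.mk'_surjective _)]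
  have hT3 : ∀ s ∈ (T.subgroupOf (MJ cs h X J)).map (QuotientGroup.mk' (center ↥(MJ cs h X J))),
      ∀ t ∈ (T.subgroupOf (MJ cs h X J)).map (QuotientGroup.mk' (center ↥(MJ cs h X J))), s * t = t * s := by
    rintro _ ⟨s, hs, rfl⟩ _ ⟨t, ht, rfl⟩
    rw [← map_mul, hT2 s hs t ht, map_mul]
  have hpT3 : ¬ p ∣ Nat.card ↥((T.subgroupOf (MJ cs h X J)).map (QuotientGroup.mk' (center ↥(MJ cs h X J)))) :=
    fun hd => hpT2 (hd.trans (Subgroup.card_map_dvd _ _))
  have hpar : ∀ K : Set (Fin l), K ≠ Set.univ → ¬ p ∣ Nat.card (PJ cs' (levi_isCartan f h)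
      ((T.subgroupOf (MJ cs h X J)).map (QuotientGroup.mk' (center ↥(MJ cs h X J))))
      (fun c => ((X (iota (fun j => sr (f j)) c)).subgroupOf (MJ cs h X J)).map
        (QuotientGroup.mk' (center ↥(MJ cs h X J)))) K) := by
    intro K hK
    refine not_dvd_card_PJ R3 hp hpr hpT3 fun hd => ?_
    have hss : f '' K ⊂ J := by
      refine ⟨by rintro _ ⟨j, -, rfl⟩; exact hf j, fun h1 => hK ?_⟩
      rw [Set.eq_univ_iff_forall]
      intro j
      obtain ⟨k, hk, e2⟩ := h1 (hf j)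
      rwa [f.injective e2] at hk
    apply hmin _ hss
    have h1 : MJ cs' (levi_isCartan f h) (fun c => ((X (iota (fun j => sr (f j)) c)).subgroupOf (MJ cs h X J)).map
        (QuotientGroup.mk' (center ↥(MJ cs h X J)))) K ≤
        ((MJ cs h X (f '' K)).subgroupOf (MJ cs h X J)).map (QuotientGroup.mk' (center ↥(MJ cs h X J))) := by
      refine RGD.Sup_le fun c hc => Subgroup.map_mono (Subgroup.comap_mono (RGD.le_Sup ?_))
      refine ⟨S.isRoot_iota hc.1, fun k hk => ?_⟩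
      by_cases hk' : ∃ j, f j = k
      · obtain ⟨j, rfl⟩ := hk'
        rw [iota_levi_apply]
        exact hc.2 j fun hj => hk ⟨j, hj, rfl⟩
      · push Not at hk'
        exact iota_levi_apply_ne f c hk'
    exact hd.trans ((Subgroup.card_dvd_of_le h1).trans ((Subgroup.card_map_dvd _ _).trans
      (Subgroup.card_comap_dvd_of_injective _ _ (MJ cs h X J).subtype_injective)))
  have hpQ : p ∣ Nat.card (↥(MJ cs h X J) ⧸ center ↥(MJ cs h X J)) := by
    have h1 := Subgroup.card_eq_card_quotient_mul_card_subgroup (center ↥(MJ cs h X J))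
    rw [h1] at hpJ
    exact ((Nat.Prime.dvd_mul hp).1 hpJ).resolve_right hpc
  have hzQ : (QuotientGroup.mk' (center ↥(MJ cs h X J))) ⟨z, hz⟩ ≠ 1 := by
    intro h1
    obtain ⟨g, hg, hgz⟩ := hzc
    apply hgz
    have h2 : (⟨z, hz⟩ : ↥(MJ cs h X J)) ∈ center ↥(MJ cs h X J) := (QuotientGroup.eq_one_iff _).1 h1
    exact congrArg Subtype.val (Subgroup.mem_center_iff.1 h2 ⟨g, hg⟩).symm
  have hzrQ : ¬ r ∣ orderOf ((QuotientGroup.mk' (center ↥(MJ cs h X J))) ⟨z, hz⟩) := fun hd =>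
    hzr (hd.trans ((orderOf_map_dvd _ _).trans (by rw [Subgroup.orderOf_mk])))
  have hnc : ∃ a b : ↥(MJ cs h X J) ⧸ center ↥(MJ cs h X J), a * b ≠ b * a := by
    by_contra hcon
    push Not at hcon
    have h1 : (commutator ↥(MJ cs h X J)).map (QuotientGroup.mk' (center ↥(MJ cs h X J))) =
        commutator (↥(MJ cs h X J) ⧸ center ↥(MJ cs h X J)) := by
      rw [commutator_def, Subgroup.map_commutator, commutator_def]
      rw [Subgroup.map_top_of_surjective _ (QuotientGroup.mk'_surjective _)]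
    rw [hcomm, Subgroup.map_top_of_surjective _ (QuotientGroup.mk'_surjective _)] at h1
    have h2 : center (↥(MJ cs h X J) ⧸ center ↥(MJ cs h X J)) = ⊤ := by
      rw [Subgroup.eq_top_iff']
      intro a
      rw [Subgroup.mem_center_iff]
      exact fun b => hcon b a
    rw [← commutator_eq_bot_iff_center_eq_top] at h2
    rw [h2] at h1
    exact top_ne_bot h1
  obtain ⟨x, g, k, hx, hgk⟩ := gow_simple R3 hT3 hF3 hG3 hnc hp hpQ hpar hzQ hzrQ
  obtain ⟨y, rfl, hy⟩ := exists_lift hp hpc hx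
  obtain ⟨g, rfl⟩ := QuotientGroup.mk'_surjective _ g
  obtain ⟨k, rfl⟩ := QuotientGroup.mk'_surjective _ k
  have hζ : (⟨z, hz⟩ : ↥(MJ cs h X J))⁻¹ * (g * y * g⁻¹ * (k * y * k⁻¹)) ∈ center ↥(MJ cs h X J) := by
    refine (QuotientGroup.eq_one_iff _).1 ?_
    change (QuotientGroup.mk' (center ↥(MJ cs h X J))) _ = 1
    rw [map_mul, map_inv, ← hgk]
    simp only [map_mul, map_inv]
    group
  have hPE : ∀ w : ↥(MJ cs h X J), IsPE p (w * y * w⁻¹) := fun w =>
    IsPE.conj ⟨1, by rw [pow_one, hy]⟩ w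
  refine ⟨_, ((⟨z, hz⟩ : ↥(MJ cs h X J))⁻¹ * (g * y * g⁻¹ * (k * y * k⁻¹))).2, fun w hw => ?_, ?_⟩
  · have h1 := Subgroup.mem_center_iff.1 hζ ⟨w, hw⟩
    exact (congrArg Subtype.val h1).symm
  · have h1 : PE p 2 (g * y * g⁻¹ * (k * y * k⁻¹)) := (hPE g).pe.mul (hPE k).pe
    have h2 := h1.map (MJ cs h X J).subtype
    have h3 : z * (((⟨z, hz⟩ : ↥(MJ cs h X J))⁻¹ * (g * y * g⁻¹ * (k * y * k⁻¹)) : ↥(MJ cs h X J)) : Y) =
        (MJ cs h X J).subtype (g * y * g⁻¹ * (k * y * k⁻¹)) := by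
      rw [Subgroup.coe_mul, Subgroup.coe_inv, Subgroup.coe_subtype]
      exact mul_inv_cancel_left z _
    rw [h3]
    exact h2

/-- **Levi–Gow.** -/
theorem levi_gow [Finite W] [Finite Y] [Fact r.Prime] (R : RGD cs h r T n X)
    (hT : ∀ s ∈ T, ∀ t ∈ T, s * t = t * s) (hn : ∀ i, n i ∈ X (sr i) ⊔ X (-sr i))
    {Fl : (I → ℤ) → ℝ → Subgroup Y} (hF : Filt R Fl) (J : Set I) (hJ : J.Nonempty)
    (hconn : ∀ K ⊆ J, K.Nonempty → K ≠ J → ∃ a ∈ K, ∃ b ∈ J, b ∉ K ∧ M a b ≠ 2)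
    (hperf : ⁅MJ cs h X J, MJ cs h X J⁆ = MJ cs h X J) {p : ℕ} (hp : p.Prime) (hpr : p ≠ r)
    (hpJ : p ∣ Nat.card (MJ cs h X J)) (hmin : ∀ K, K ⊂ J → ¬ p ∣ Nat.card (MJ cs h X K))
    (hpT : ¬ p ∣ Nat.card T) {z : Y} (hz : z ∈ MJ cs h X J) (hzr : ¬ r ∣ orderOf z)
    (hzc : ∃ g ∈ MJ cs h X J, z * g ≠ g * z) :
    ∃ ζ ∈ MJ cs h X J, (∀ g ∈ MJ cs h X J, ζ * g = g * ζ) ∧ PE p 2 (z * ζ) :=
  levi_gow' R hT hn hF J hJ hconn hperf hp hpr hpJ hmin
    (fun hd => hpT (hd.trans (Subgroup.card_comap_dvd_of_injective T _ (MJ cs h X J).subtype_injective))) hz hzr hzc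

end main

end Cfsg.Agent.H169.DP
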