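import Cfsg.Agent.H169.DP.ActE6
import Cfsg.Agent.H169.DP.TraceE6
import Cfsg.Agent.H169.DP.NodeGen
import Cfsg.Agent.H934.RowOrb
import Cfsg.Agent.H35.ExcIdxTw
import Cfsg.Agent.KFacts.RgdFiltTwAll

/-!
# The nodes of `²E₆(q)` as products of `p`-elements (S2454; helper169 for helper346)
-/

set_option autoImplicit false
set_option linter.unusedSectionVars false
set_option maxHeartbeats 400000

namespace Cfsg.Agent.H169.DP.TwE6

open CoxeterSystem Cfsg.Agent.ChevalleyStructure.CoxeterGeom Cfsg.Agent.Tits.Roots Cfsg.Agent.Tits.Core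
  Cfsg.Agent.Tits.RootComb Cfsg.Agent.Nodes.Comb Cfsg.Agent.Nodes.Reps Cfsg.Agent.Nodes.BNOf
  Cfsg.Agent.Nodes.StabComb Cfsg.Agent.Nodes.OppDec Cfsg.Agent.Nodes.LeviDec
  Cfsg.Agent.Nodes.RGDTwGen Cfsg.Agent.Nodes.RGDChev Cfsg.Agent.Nodes.RGDFold
  Cfsg.Agent.Nodes.RGDFoldSL Cfsg.Agent.Nodes.RGDTwE6 Cfsg.Agent.Nodes.RGDTwTab Cfsg.Agent.Nodes.RGDTwCoordE6
  Cfsg.Agent.Nodes.RGDTwCoord Cfsg.Agent.Nodes.RGDTwComE6 Cfsg.Agent.Nodes.RGDTwActE6
  Cfsg.Agent.Nodes.RGDLib Cfsg.Agent.Nodes.SubComb Cfsg.Agent.Nodes.Sub Cfsg.Agent.Nodes.Bruhat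
open Cfsg.Lie Cfsg.Agent.ChevalleyStructure
  Cfsg.Agent.ChevalleyStructure.TwistedU Cfsg.Agent.ChevalleyStructure.TwistedFix
open Cfsg.Agent.ChevalleyStructure.TwE6Basic (sg)
open Cfsg.Agent.OddHalf.NI.Mult (up lo dg Coord)
open Cfsg.Agent.Nodes.RGDTwNode.E6 (nodeOK eps_one rest)
open Cfsg.Agent.UGT.U2.FOne.TwESix (P hf coordP P_hS_mem range_P P_wS comm_T)
open Cfsg.Agent.H175.DP (dc)
open Cfsg.Agent.H346.DP
open Cfsg.Agent.H514.DP (PE IsPE)
open Cfsg.Agent.H53.HC (MJ)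
open Cfsg.Agent.H35.ExcIdx (fE card_X_tw)

universe u

/-- the Coxeter system of type `F₄` -/
local notation "c4" => CoxeterMatrix.toCoxeterSystem CoxeterMatrix.F₄

/-- the representatives of the classes of the nodes -/
local notation "rp6" => Cfsg.Agent.Nodes.RGDTwNode.E6.rep

variable {K : Type u} [Field K] [Fintype K] {q : ℕ} {φ : K →+* K} (hφ : ∀ x, φ x = x ^ q)
  (hqq : ∀ t : K, (t ^ q) ^ q = t)

theorem finW : Finite CoxeterMatrix.F₄.Group := Cfsg.Agent.KFacts.TwESix.Comb.finiteW c4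

theorem act_P {i j : Fin 4} (d : (Fn φ j)ˣ) {c : (Fn φ i)ˣ}
    (hc : ((c : Fn φ i) : K) = wt chevE6 φ (J j) (rp6 i) ((d : Fn φ j) : K))
    (g : Matrix.SpecialLinearGroup (Fin 2) (Fn φ i)) :
    P hφ hqq j (dg d) * P hφ hqq i g * (P hφ hqq j (dg d))⁻¹ = P hφ hqq i (dc c g) := by
  obtain ⟨p, hp'⟩ := CharP.exists K
  have : Fact p.Prime := ⟨CharP.char_is_prime K p⟩
  have := finW
  exact act_dc (rgd c4 hφ hqq p) (coordP hφ hqq) (P_dg_mem hφ hqq j d) (conj_P hφ hqq d hc) g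

include hφ hqq in
/-- the scalar as a unit -/
theorem exists_scalar (i : Fin 4) {j : Fin 4} (d : (Fn φ j)ˣ) : ∃ c : (Fn φ i)ˣ, ((c : Fn φ i) : K) =
    wt chevE6 φ (J j) (rp6 i) ((d : Fn φ j) : K) := by
  have hd' : ((d : Fn φ j) : K) ≠ 0 := fun h => d.ne_zero (Subtype.ext h)
  have h1 := Cfsg.Agent.OddHalf.NI.ModelTw.coe_Phi_dg (foldGrp hφ hqq) nodeOK hf j d
  have h2 := KFacts.TwESix.NodeCoord.ch_spec (foldGrp hφ hqq) (nodeOK i) (hf i) (P_dg_mem hφ hqq j d)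
  refine ⟨Units.mk0 _ h2.1, ?_⟩
  refine KFacts.TwESix.NodeCoord.ch_eq (foldGrp hφ hqq) (nodeOK i) (hf i) (P_dg_mem hφ hqq j d) ?_
  have h4 := hI_conj (hp := hp) (φ := φ) (J j) ((nodeOK i).lt (rp6 i) List.mem_cons_self) hd' 1
  rw [← h1, mul_one] at h4
  exact h4

/-! ### The scalars -/

theorem wt10 (x : K) : wt chevE6 φ (J 1) (rp6 0) x = x⁻¹ := by
  rw [show J 1 = [3] from rfl, wt_one, show chevE6.cartan ((3 : Fin 6) : ℕ) (rp6 0) = -1 from by decide +kernel,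
    _root_.zpow_neg_one]

theorem wt01 (x : K) : wt chevE6 φ (J 0) (rp6 1) x = x⁻¹ := by
  rw [show J 0 = [1] from rfl, wt_one, show chevE6.cartan ((1 : Fin 6) : ℕ) (rp6 1) = -1 from by decide +kernel,
    _root_.zpow_neg_one]

theorem wt23 (x : K) : wt chevE6 φ (J 2) (rp6 3) x = x⁻¹ := by
  rw [show J 2 = [2, 4] from rfl, wt_two, show chevE6.cartan ((2 : Fin 6) : ℕ) (rp6 3) = -1 from by decide +kernel,
    show chevE6.cartan ((4 : Fin 6) : ℕ) (rp6 3) = 0 from by decide +kernel, _root_.zpow_neg_one, zpow_zero, mul_one]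

theorem wt32 (x : K) : wt chevE6 φ (J 3) (rp6 2) x = x⁻¹ := by
  rw [show J 3 = [0, 5] from rfl, wt_two, show chevE6.cartan ((0 : Fin 6) : ℕ) (rp6 2) = -1 from by decide +kernel,
    show chevE6.cartan ((5 : Fin 6) : ℕ) (rp6 2) = 0 from by decide +kernel, _root_.zpow_neg_one, zpow_zero, mul_one]

theorem wt21 (x : K) : wt chevE6 φ (J 2) (rp6 1) x = x⁻¹ * (φ x)⁻¹ := by
  rw [show J 2 = [2, 4] from rfl, wt_two, show chevE6.cartan ((2 : Fin 6) : ℕ) (rp6 1) = -1 from by decide +kernel,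
    show chevE6.cartan ((4 : Fin 6) : ℕ) (rp6 1) = -1 from by decide +kernel, _root_.zpow_neg_one, _root_.zpow_neg_one]

/-! ### The data -/

include hφ hqq in
theorem card_Fn (hq : 1 < q) (hK : Fintype.card K = q ^ 2) (i : Fin 4) : Nat.card (Fn φ i) = fE q i := by
  obtain ⟨p, hp'⟩ := CharP.exists K
  have : Fact p.Prime := ⟨CharP.char_is_prime K p⟩
  have := finW
  have C := coordP hφ hqq
  rw [← card_X_tw (φ := φ) hφ hqq hq hK i]
  refine Nat.card_congr (Equiv.ofBijective (fun a : Fn φ i => (⟨P hφ hqq i (up a), C.mem_up i a⟩ : ↥(X φ q (sr i))))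
    ⟨fun a b hab => ?_, fun x => ?_⟩)
  · exact up_inj' (rgd c4 hφ hqq p) C (congrArg Subtype.val hab)
  · obtain ⟨a, ha⟩ := C.exists_up x.2
    exact ⟨a, Subtype.ext ha⟩

include hqq in
theorem hn4 (i : Fin 4) : Nodes.RGDTwE6.nn hφ i ∈ X φ q (sr i) ⊔ X φ q (-sr i) := by
  have h1 : P hφ hqq i (wS 1) ∈ (P hφ hqq i).range := ⟨_, rfl⟩
  rw [range_P, P_wS] at h1
  exact h1

include hφ hqq in
theorem hT4 : ∀ a ∈ T K q, ∀ b ∈ T K q, a * b = b * a := fun _ ha _ hb => comm_T ha hb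

/-- the elements `P j (dg u)` are `r`-regular -/
theorem not_dvd_orderOf {r : ℕ} (hr : r.Prime) [CharP K r] (j : Fin 4) (u : (Fn φ j)ˣ) :
    ¬ r ∣ orderOf (P hφ hqq j (dg u)) := by
  intro hd
  have h0 : P hφ hqq j (dg u) ^ (Nat.card (Fn φ j) - 1) = 1 := by
    change (P hφ hqq j (OddHalf.NI.Mult.dgHom u)) ^ _ = 1
    rw [← map_pow, ← map_pow, unit_pow, map_one, map_one]
  have h1 := hd.trans (orderOf_dvd_of_pow_eq_one h0)
  have : Fact r.Prime := ⟨hr⟩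
  have hch : CharP (Fn φ j) r := inferInstance
  have := Fintype.ofFinite (Fn φ j)
  have h2 : r ∣ Nat.card (Fn φ j) := by
    rw [Nat.card_eq_fintype_card, FiniteField.card (Fn φ j) r |>.choose_spec.2]
    exact dvd_pow_self r (FiniteField.card (Fn φ j) r).choose.ne_zero
  have h3 : 1 ≤ Nat.card (Fn φ j) := Nat.card_pos
  have h4 := (Nat.dvd_sub h2 h1)
  rw [Nat.sub_sub_self h3, Nat.dvd_one] at h4
  exact hr.one_lt.ne' h4

include hφ hqq in
/-- **The torus case.** -/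
theorem nodeP_tor {i j : Fin 4} (hw : ∀ x : K, wt chevE6 φ (J j) (rp6 i) x = x⁻¹) {p : ℕ} (hp : p.Prime)
    (hd : p ∣ Nat.card (Fn φ j) - 1) : NodeP (X φ q) p 2 i := by
  have h0 : Nat.card (Fn φ j)ˣ = Nat.card (Fn φ j) - 1 := Nat.card_units _
  have : Fact p.Prime := ⟨hp⟩
  obtain ⟨u, hu⟩ := exists_prime_orderOf_dvd_card' (G := (Fn φ j)ˣ) p (by rw [h0]; exact hd)
  have hup : u ^ p = 1 := by rw [← hu]; exact pow_orderOf_eq_one u
  have hu1 : u ≠ 1 := by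
    rintro rfl
    rw [orderOf_one] at hu
    exact hp.one_lt.ne hu
  have hz : IsPE p (P hφ hqq j (dg u)) := ⟨1, by
    rw [pow_one]
    change (P hφ hqq j (OddHalf.NI.Mult.dgHom u)) ^ _ = 1
    rw [← map_pow, ← map_pow, hup, map_one, map_one]⟩
  obtain ⟨c, hc⟩ := exists_scalar hφ hqq i u
  refine NodeP.of_act (coordP hφ hqq) (μ := c) ?_ (act_P hφ hqq u hc) hz.pe
  rintro rfl
  apply hu1
  rw [hw] at hc
  have h1 : ((u : Fn φ j) : K) = 1 := by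
    rw [← inv_inj, ← hc, inv_one]
    rfl
  exact Units.ext (Subtype.ext h1)

/-! ### Perfect Levi subgroups -/

include hφ hqq in
theorem perf4 (hq : 1 < q) (hK : Fintype.card K = q ^ 2) {J : Set (Fin 4)} (h0 : 0 ∈ J → 1 ∈ J ∨ 4 ≤ q)
    (h1 : 1 ∈ J → 0 ∈ J ∨ 2 ∈ J ∨ 4 ≤ q) :
    ⁅MJ c4 isCartan (X φ q) J, MJ c4 isCartan (X φ q) J⁆ = MJ c4 isCartan (X φ q) J := by
  obtain ⟨r, hr'⟩ := CharP.exists K
  have : Fact r.Prime := ⟨CharP.char_is_prime K r⟩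
  have := finW
  have R := rgd c4 hφ hqq r
  have C := coordP hφ hqq
  have hF := card_Fn hφ hqq hq hK
  have h4 : ∀ i : Fin 4, 2 ≤ (i : ℕ) → 4 ≤ Nat.card (Fn φ i) := by
    intro i hi
    rw [hF, fE, if_neg (by omega)]
    nlinarith
  have h4' : 4 ≤ q → ∀ i : Fin 4, 4 ≤ Nat.card (Fn φ i) := by
    intro hq4 i
    rw [hF, fE]
    split_ifs
    · exact hq4
    · nlinarith
  refine mj_perfect_of R (hn4 hφ hqq) fun j hj => ?_
  have hj4 : j = 0 ∨ j = 1 ∨ 2 ≤ (j : ℕ) := (by decide : ∀ j : Fin 4, j = 0 ∨ j = 1 ∨ 2 ≤ (j : ℕ)) j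
  rcases hj4 with rfl | rfl | hj2
  · rcases h0 hj with h | h
    · exact X_le_of_three R hj h rfl
    · exact X_le_of_four C hj (h4' h _)
  · rcases h1 hj with h | h | h
    · exact X_le_of_three R hj h rfl
    · intro g hg
      obtain ⟨x, hx, y, hy, rfl⟩ := exists_comm_one hφ hqq hK hq hg
      refine Subgroup.commutator_mem_commutator ?_ (X_neg_le_MJ h hy)
      refine RGD.le_Sup (S := RootsJ c4 isCartan J) ⟨isRoot_12, fun k hk => ?_⟩ hx
      have hk1 : k ≠ 1 := fun e => hk (e ▸ hj)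
      have hk2 : k ≠ 2 := fun e => hk (e ▸ h)
      rw [Pi.add_apply, sr_ne hk1, sr_ne hk2, add_zero]
    · exact X_le_of_four C hj (h4' h _)
  · exact X_le_of_four C hj (h4 j hj2)

include hφ hqq in
theorem not_dvd_T4 (hq : 1 < q) (hK : Fintype.card K = q ^ 2) {p : ℕ} (hp : p.Prime) (hd : ¬ p ∣ q ^ 2 - 1) :
    ¬ p ∣ Nat.card (T K q) := by
  obtain ⟨r, hr'⟩ := CharP.exists K
  have : Fact r.Prime := ⟨CharP.char_is_prime K r⟩
  have := finW
  have R := rgd c4 hφ hqq r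
  refine not_dvd_of_pow hp (fun t ht => ?_) hd
  refine torus_pow R (G1_eq_top c4 hφ hqq) (coordP hφ hqq) (hT4 hφ hqq) (fun i u => ?_) ht
  have h1 : Nat.card (Fn φ i) - 1 ∣ q ^ 2 - 1 := by
    rw [card_Fn hφ hqq hq hK, fE]
    split_ifs
    · have := Nat.sub_dvd_pow_sub_pow q 1 2
      rwa [one_pow] at this
    · exact dvd_rfl
  obtain ⟨k, hk⟩ := h1
  rw [hk, pow_mul, unit_pow, one_pow]

/-! ### Minimal sets of nodes -/

section lev

variable {r : ℕ} [Fact r.Prime] [CharP K r] {p : ℕ}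

include hφ hqq

/-- the filtration -/
theorem exists_filt : ∃ Fl, Cfsg.Agent.KFacts.RgdBorelTits.Filt (rgd c4 hφ hqq r) Fl :=
  ⟨_, Cfsg.Agent.KFacts.RgdFiltTwAll.filt_fold c4 isCartan foldData (foldGrp hφ hqq) r⟩

theorem lev_node {J : Set (Fin 4)} (L : LevMin c4 isCartan (X φ q) J p)
    (hperf : ⁅MJ c4 isCartan (X φ q) J, MJ c4 isCartan (X φ q) J⁆ = MJ c4 isCartan (X φ q) J) (hp : p.Prime)
    (hpr : p ≠ r) (hpT : ¬ p ∣ Nat.card ↥((T K q).subgroupOf (MJ c4 isCartan (X φ q) J))) {i j : Fin 4} (hi : i ∈ J)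
    (hj : j ∈ J) (u : (Fn φ j)ˣ) (hu : wt chevE6 φ (Nodes.RGDTwE6.J j) (rp6 i) ((u : Fn φ j) : K) ≠ 1) :
    NodeP (X φ q) p 4 i := by
  have := finW
  obtain ⟨Fl, hF⟩ := exists_filt hφ hqq (r := r)
  obtain ⟨c, hc⟩ := exists_scalar hφ hqq i u
  refine LevMin.nodeP' (hT4 hφ hqq) (hn4 hφ hqq) hF (coordP hφ hqq) L hperf hp hpr hpT hi (z := P hφ hqq j (dg u))
    (KK_le_MJ hj (mem_KK (coordP hφ hqq) j _)) (not_dvd_orderOf hφ hqq Fact.out j u) (μ := c) ?_ (act_P hφ hqq u hc)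
  rintro rfl
  apply hu
  rw [← hc]
  rfl

theorem lev_sq {J : Set (Fin 4)} (L : LevMin c4 isCartan (X φ q) J p)
    (hperf : ⁅MJ c4 isCartan (X φ q) J, MJ c4 isCartan (X φ q) J⁆ = MJ c4 isCartan (X φ q) J) (hp : p.Prime)
    (hpr : p ≠ r) (hpT : ¬ p ∣ Nat.card ↥((T K q).subgroupOf (MJ c4 isCartan (X φ q) J))) {i : Fin 4} (hi : i ∈ J)
    (h4 : 4 ≤ Nat.card (Fn φ i)) : NodeP (X φ q) p 4 i := by
  have := finW
  obtain ⟨Fl, hF⟩ := exists_filt hφ hqq (r := r)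
  obtain ⟨u, hu⟩ := exists_sq_ne_one h4
  refine LevMin.nodeP' (hT4 hφ hqq) (hn4 hφ hqq) hF (coordP hφ hqq) L hperf hp hpr hpT hi (z := P hφ hqq i (dg u))
    (KK_le_MJ hi (mem_KK (coordP hφ hqq) i _)) (not_dvd_orderOf hφ hqq Fact.out i u) (μ := u ^ 2) hu fun g => ?_
  rw [← map_inv, ← map_mul, ← map_mul, dg_conj]

omit hφ hqq in
theorem path01 : Cfsg.Agent.H35.ExcIdx.PathOK CoxeterMatrix.F₄ [0, 1] [0, 1] [] 0 := by constructor <;> decide +kernel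
omit hφ hqq in
theorem path2 : Cfsg.Agent.H35.ExcIdx.PathOK CoxeterMatrix.F₄ [2] [2] [] 0 := by constructor <;> decide +kernel

omit hφ hqq in
theorem orb12 : Cfsg.Agent.H934.RowOrb.OrbOK Nodes.RGDTwE6.A [1, 2] 1 [[], [1], [2, 1], [1, 2, 1]] := by
  constructor <;> decide +kernel

theorem card01 (hq : 1 < q) (hK : Fintype.card K = q ^ 2) :
    Nat.card ↥(PJ c4 isCartan (T K q) (X φ q) {0, 1}) =
      (1 + q) * (1 + q + q ^ 2) * Nat.card ↥(RGD.B c4 isCartan (T K q) (X φ q)) := by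
  have := finW
  obtain ⟨r, hr'⟩ := CharP.exists K
  have : Fact r.Prime := ⟨CharP.char_is_prime K r⟩
  have R := rgd c4 hφ hqq r
  have h1 := Cfsg.Agent.H35.ExcIdx.card_step R path01 (y := q) (fun i hi => by
    rw [card_X_tw hφ hqq hq hK]; revert i; simp [fE]) (Cfsg.Agent.H35.ExcIdx.card_nil R)
  have h2 : ({j | j ∈ ([0, 1] : List (Fin 4))} : Set (Fin 4)) = {0, 1} := by ext; simp
  rw [h2] at h1
  rw [h1]
  congr 1
  simp only [Cfsg.Agent.H35.ExcIdx.FA, List.length_cons, List.length_nil, Finset.prod_range_succ, Finset.prod_range_zero,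
    Finset.sum_range_succ, Finset.sum_range_zero]
  ring

theorem card23 (hq : 1 < q) (hK : Fintype.card K = q ^ 2) :
    Nat.card ↥(PJ c4 isCartan (T K q) (X φ q) {2, 3}) =
      (1 + q ^ 2) * (1 + q ^ 2 + q ^ 4) * Nat.card ↥(RGD.B c4 isCartan (T K q) (X φ q)) := by
  have := finW
  obtain ⟨r, hr'⟩ := CharP.exists K
  have : Fact r.Prime := ⟨CharP.char_is_prime K r⟩
  have R := rgd c4 hφ hqq r
  have h1 := Cfsg.Agent.H35.ExcIdx.card_step R Cfsg.Agent.H35.ExcIdx.path_T_3 (y := q ^ 2) (fun i hi => by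
    rw [card_X_tw hφ hqq hq hK]; revert i; simp [fE]) (Cfsg.Agent.H35.ExcIdx.card_nil R)
  have h2 : ({j | j ∈ ([2, 3] : List (Fin 4))} : Set (Fin 4)) = {2, 3} := by ext; simp
  rw [h2] at h1
  rw [h1]
  congr 1
  simp only [Cfsg.Agent.H35.ExcIdx.FA, List.length_cons, List.length_nil, Finset.prod_range_succ, Finset.prod_range_zero,
    Finset.sum_range_succ, Finset.sum_range_zero]
  ring

theorem card12 (hq : 1 < q) (hK : Fintype.card K = q ^ 2) :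
    Nat.card ↥(PJ c4 isCartan (T K q) (X φ q) {1, 2}) =
      (1 + q) * (1 + q ^ 3) * (1 + q ^ 2) * Nat.card ↥(RGD.B c4 isCartan (T K q) (X φ q)) := by
  have := finW
  obtain ⟨r, hr'⟩ := CharP.exists K
  have : Fact r.Prime := ⟨CharP.char_is_prime K r⟩
  have R := rgd c4 hφ hqq r
  have h1 := Cfsg.Agent.H934.RowOrb.card_orbit R orb12 (card_X_tw hφ hqq hq hK) (JL' := [2]) (by decide)
    (Cfsg.Agent.H35.ExcIdx.card_step R path2 (y := q ^ 2) (fun i hi => by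
    rw [card_X_tw hφ hqq hq hK]; revert i; simp [fE]) (Cfsg.Agent.H35.ExcIdx.card_nil R))
  have h2 : ({j | j ∈ ([1, 2] : List (Fin 4))} : Set (Fin 4)) = {1, 2} := by ext; simp
  rw [h2] at h1
  rw [h1]
  congr 1
  have h3 : fE q 1 = q := rfl
  have h4 : fE q 2 = q ^ 2 := rfl
  simp only [Cfsg.Agent.H35.ExcIdx.FA, List.length_cons, List.length_nil, Finset.prod_range_succ, Finset.prod_range_zero,
    Finset.sum_range_succ, Finset.sum_range_zero, List.map_cons, List.map_nil, List.prod_cons, List.prod_nil,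
    List.sum_cons, List.sum_nil, h3, h4]
  ring

/-- elements of norm `≠ 1` -/
theorem exists_norm (hq : 3 ≤ q) (hK : Fintype.card K = q ^ 2) :
    ∃ u : (Fn φ 2)ˣ, ((u : Fn φ 2) : K) * φ ((u : Fn φ 2) : K) ≠ 1 := by
  have h1 := card_Fn hφ hqq (by omega) hK 2
  have h2 : fE q 2 = q ^ 2 := rfl
  rw [h2] at h1
  have h3 : Nat.card (Fn φ 2)ˣ = q ^ 2 - 1 := by rw [Nat.card_units, h1]
  obtain ⟨g, hg⟩ := IsCyclic.exists_ofOrder_eq_natCard (α := (Fn φ 2)ˣ)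
  refine ⟨g, fun h4 => ?_⟩
  rw [hφ, ← pow_succ'] at h4
  have h5 : g ^ (q + 1) = 1 := by
    apply Units.ext
    apply Subtype.ext
    exact h4
  have h6 := orderOf_dvd_of_pow_eq_one h5
  rw [hg, h3] at h6
  have h7 := Nat.le_of_dvd (by omega) h6
  have h8 : 3 * q ≤ q ^ 2 := by nlinarith
  omega

end lev

end Cfsg.Agent.H169.DP.TwE6
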