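import Cfsg.Agent.H169.DP.NodeE6Two
import Cfsg.Agent.H344.DP.TwDefs

/-!
# The row `²E₆(q)` of S2454 (helper169, helper344, helper346)
-/

set_option autoImplicit false

namespace Cfsg.Agent.H169.DP

open Cfsg.Agent.H514.DP (PE IsPE PW)
open Cfsg.Lie

universe u

variable {K : Type u} [Field K] [Fintype K] {q : ℕ}

/-- **The node hypothesis for `²E₆(q)`.** -/
theorem nodes_twE6 (hq : 1 < q) (hK : Fintype.card K = q ^ 2) {φ : K →+* K} (hφ : ∀ x, φ x = x ^ q)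
    (hqq : ∀ t : K, (t ^ q) ^ q = t) {r : ℕ} [Fact r.Prime] [CharP K r] {p : ℕ} (hp : p.Prime) (hpr : p ≠ r)
    (hd : p ∣ Nat.card ↥(twistedE6 K q)) : H344.DP.NodesE hφ hqq p :=
  TwE6.nodes_twE6' hφ hqq hq hK hp hpr hd

/-- **S2454 for `²E₆(q)`** : every element is a product of `70` elements of `p`-power order. -/
theorem pw_twE6 (hq : IsPrimePow q) (hK : Fintype.card K = q ^ 2) {p : ℕ} (hp : p.Prime)
    (hd : p ∣ Nat.card ↥(twistedE6 K q)) : PW p 70 ↥(twistedE6 K q) :=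
  H344.DP.pw_of_nodesE hq hK fun hφ hqq _ _ _ hpr => nodes_twE6 hq.one_lt hK hφ hqq hp hpr hd

end Cfsg.Agent.H169.DP
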